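import Mathlib
import Cfsg.Agent.Lib.Helper95.BG14.Rows
import Cfsg.Agent.Lib.Helper34.BG10a
import Cfsg.Agent.Lib.Helper55.BGBasic
import Cfsg.Agent.Lib.Helper55.BGFit
import Cfsg.Agent.Lib.Helper55.BGHall
import Cfsg.Agent.Lib.Helper22.Radical
import Cfsg.Agent.S1446

/-!
# S1351, CASE A: if `M` is not of type `P₁` then a nontrivial Hall `κ(M)`-subgroup has prime order

From S1429 (`M_σ` nilpotent, `C_{M_σ}(U) = 1`), S1430(1),(2) (prime action of `K` on `M_σ`, regular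
action of `K` on the abelian Hall subgroup `U`) and the landed S1446.
-/

set_option autoImplicit false

namespace Cfsg.Agent.Helper95.BG14

open Subgroup

variable {G : Type*} [Group G] [Finite G]

/-- A Hall `π`-subgroup `U` of `M` contains (the image of) a Sylow `p`-subgroup of `M` for `p ∈ π`. -/
theorem exists_sylow_le_of_hall {π : Set ℕ} {U M : Subgroup G} (hU : Cfsg.IsPiHallOf π U M)
    {p : ℕ} [hp : Fact p.Prime] (hpπ : p ∈ π) :
    ∃ S : Sylow p M, (S : Subgroup M).map M.subtype ≤ U := by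
  obtain ⟨-, -, hidx⟩ := hU
  obtain ⟨Q⟩ : Nonempty (Sylow p (U.subgroupOf M)) := inferInstance
  have hQ : IsPGroup p ((Q : Subgroup (U.subgroupOf M)).map (U.subgroupOf M).subtype) :=
    Q.isPGroup'.map _
  have hidx' : ¬ p ∣ ((Q : Subgroup (U.subgroupOf M)).map (U.subgroupOf M).subtype).index := by
    rw [Subgroup.index_map_subtype]
    intro h
    rcases (Nat.Prime.dvd_mul hp.out).mp h with h | h
    · exact Q.not_dvd_index h
    · exact hidx p hp.out hpπ h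
  refine ⟨hQ.toSylow hidx', ?_⟩
  rintro x ⟨y, hy, rfl⟩
  have hy' : y ∈ ((Q : Subgroup (U.subgroupOf M)).map (U.subgroupOf M).subtype) := hy
  obtain ⟨z, -, rfl⟩ := hy'
  exact z.2

/-- `M_σ ≠ 1` as soon as `κ(M)` has a prime dividing the order of some subgroup. -/
theorem sigmaCore_ne_bot_of_kappa {M : Subgroup G} {u : ℕ} (hu : u ∈ Cfsg.kappa M) :
    Cfsg.sigmaCore M ≠ ⊥ := by
  obtain ⟨hup, -, -, h⟩ := hu
  haveI : Fact u.Prime := ⟨hup⟩
  obtain ⟨-, x, -, -, y, hy, hy1, -⟩ := h default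
  intro hbot
  rw [hbot, Subgroup.mem_bot] at hy
  exact hy1 hy

theorem exists_prime_dvd_card_of_ne_bot {K : Subgroup G} (hK1 : K ≠ ⊥) :
    ∃ u : ℕ, u.Prime ∧ u ∣ Nat.card K := by
  apply Nat.exists_prime_and_dvd
  intro h
  exact hK1 (Subgroup.card_eq_one.mp h)

theorem coprime_of_primes {a b : ℕ} (h : ∀ p : ℕ, p.Prime → p ∣ a → p ∣ b → False) : a.Coprime b := by
  by_contra hc
  obtain ⟨p, hp, ha, hb⟩ := Nat.Prime.not_coprime_iff_dvd.mp hc
  exact h p hp ha hb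

/-- CASE A of S1351. -/
theorem card_prime_of_not_P1 (hG : Cfsg.IsMinSimpleOddOrder G) (h1429 : R1429 G) (h1430 : R1430 G)
    (M : Subgroup G) (hM : IsCoatom M) (K : Subgroup G) (hK : Cfsg.IsPiHallOf (Cfsg.kappa M) K M)
    (hK1 : K ≠ ⊥)
    (hP1 : ¬ (∀ q : ℕ, q.Prime → q ∣ Nat.card M → q ∉ Cfsg.sigma M → q ∈ Cfsg.kappa M)) :
    (Nat.card K).Prime ∧ Group.IsNilpotent (Cfsg.sigmaCore M) := by
  classical
  obtain ⟨hprime, ⟨U, -, hUhall, hKU, hUfrob⟩, -⟩ := h1430 M hM K hK hK1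
  have hP1' := hP1
  push_neg at hP1'
  obtain ⟨p, hp, hpM, hpσ, hpκ⟩ := hP1'
  haveI : Fact p.Prime := ⟨hp⟩
  have hpπ : p ∈ {q | q.Prime ∧ q ∉ Cfsg.kappa M ∧ q ∉ Cfsg.sigma M} := ⟨hp, hpκ, hpσ⟩
  obtain ⟨S, hSU⟩ := exists_sylow_le_of_hall hUhall hpπ
  obtain ⟨-, hCA, hnil⟩ := h1429 M hM hP1 p hpM (by
    intro h
    rcases h with h | h
    · exact hpσ h
    · exact hpκ h) S
  refine ⟨?_, hnil⟩
  have hAU : closure {x : G | x ∈ (S : Subgroup M).map M.subtype ∧ x ^ p = 1} ≤ U :=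
    (closure_le _).mpr (fun x hx => hSU hx.1)
  have hCU : Cfsg.sigmaCore M ⊓ centralizer (U : Set G) = ⊥ := by
    rw [eq_bot_iff, ← hCA]
    exact inf_le_inf_left _ (centralizer_le (by exact_mod_cast hAU))
  obtain ⟨u, hu, huK⟩ := exists_prime_dvd_card_of_ne_bot hK1
  have huκ : u ∈ Cfsg.kappa M := hK.2.1 u hu huK
  have hM1 : Cfsg.sigmaCore M ≠ ⊥ := sigmaCore_ne_bot_of_kappa huκ
  have hU1 : U ≠ ⊥ := by
    intro h
    apply hM1
    rw [← hCU, h, eq_comm, inf_eq_left]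
    intro x _
    rw [Subgroup.mem_centralizer_iff]
    intro y hy
    have : y = 1 := by simpa using hy
    subst this
    simp
  have hMtop : M ≠ ⊤ := hM.1
  have hUM : U ≤ M := hUhall.1
  have hKM : K ≤ M := hK.1
  have hsup_le : U ⊔ K ≤ M := sup_le hUM hKM
  have hsup_top : U ⊔ K ≠ ⊤ := fun h => hMtop (top_le_iff.mp (h ▸ hsup_le))
  -- coprimality
  have hUK : (Nat.card U).Coprime (Nat.card K) := coprime_of_primes (fun q hq hqU hqK =>
    (hUhall.2.1 q hq hqU).2.1 (hK.2.1 q hq hqK))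
  have hUσ : (Nat.card U).Coprime (Nat.card (Cfsg.sigmaCore M)) := coprime_of_primes
    (fun q hq hqU hqσ => (hUhall.2.1 q hq hqU).2.2 (Cfsg.Agent.Helper55.BGB.isPi_sigmaCore M q hq hqσ))
  have hKσ : (Nat.card K).Coprime (Nat.card (Cfsg.sigmaCore M)) := coprime_of_primes
    (fun q hq hqK hqσ => Cfsg.Agent.Helper55.BGB.not_mem_sigma_of_mem_kappa (hK.2.1 q hq hqK)
      (Cfsg.Agent.Helper55.BGB.isPi_sigmaCore M q hq hqσ))
  have hdvd : Nat.card ↥(U ⊔ K) ∣ Nat.card K * Nat.card U := by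
    rw [sup_comm]
    exact Cfsg.Agent.Helper22.card_sup_dvd_of_le_normalizer hKU
  have hcop : (Nat.card ↥(U ⊔ K)).Coprime (Nat.card (Cfsg.sigmaCore M)) :=
    Nat.Coprime.coprime_dvd_left hdvd (Nat.Coprime.mul_left hKσ hUσ)
  have hnorm := Cfsg.Agent.Helper55.BGB.le_normalizer_sigmaCore M
  exact (Cfsg.Agent.S1446.result U K (Cfsg.sigmaCore M) hU1 hK1
    (disjoint_iff.mp (Subgroup.disjoint_of_coprime_natCard hUK)) hKU hUfrob
    (Cfsg.Agent.Helper34.BG.solvable_of_ne_top hG hsup_top)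
    (Cfsg.Agent.Helper34.BG.odd_card_subgroup hG _)
    hM1 hnil (hUM.trans hnorm) (hKM.trans hnorm) hcop hCU hprime).1

end Cfsg.Agent.Helper95.BG14
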