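import Mathlib
import Cfsg.Agent.Lib.Helper95.BG14.CaseA
import Cfsg.Agent.Lib.Helper25.BGNat
import Cfsg.Agent.Lib.Helper52.CoprimeHall
import Cfsg.Agent.Lib.Helper69.PiParts

/-!
# S1351, CASE B1: a partner `H ∈ 𝓜(N_G(X))`, `X ≤ K` of prime order, that is not of type `P₁`

Then `K ≤ H_σ` and `H_σ` is nilpotent, so `K` is nilpotent.
-/

set_option autoImplicit false

namespace Cfsg.Agent.Helper95.BG14

open Subgroup

variable {G : Type*} [Group G] [Finite G]

/-- In a solvable subgroup, every `π`-subgroup lies in a Hall `π`-subgroup. -/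
theorem exists_hall_ge (π : Set ℕ) {H Y : Subgroup G} (hs : Group.IsSolvable H) (hYH : Y ≤ H)
    (hY : ∀ p : ℕ, p.Prime → p ∣ Nat.card Y → p ∈ π) :
    ∃ J : Subgroup G, Cfsg.IsPiHallOf π J H ∧ Y ≤ J := by
  classical
  have hH0 : Nat.card H ≠ 0 := Nat.card_pos.ne'
  have hmn := Cfsg.Agent.Helper69.piNat_mul_compl π hH0
  have hYn : (Nat.card Y).Coprime (Cfsg.Agent.Helper69.piNat πᶜ (Nat.card H)) :=
    coprime_of_primes (fun q hq hqY hqn =>
      Cfsg.Agent.Helper69.prime_mem_of_dvd_piNat πᶜ _ q hq hqn (hY q hq hqY))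
  obtain ⟨Q, hQH, hQc, hYQ, -⟩ := Cfsg.Agent.Helper52.exists_invariant_hall_ge (⊥ : Subgroup G) H Y
    bot_le (by simp) hs _ _ hmn.symm (Cfsg.Agent.Helper69.piNat_coprime π _) hYH bot_le hYn
  refine ⟨Q, ⟨hQH, ?_, ?_⟩, hYQ⟩
  · intro p hp hpQ
    rw [hQc] at hpQ
    exact Cfsg.Agent.Helper69.prime_mem_of_dvd_piNat π _ p hp hpQ
  · intro p hp hpπ hdvd
    have h1 : Nat.card Q * Q.relIndex H = Nat.card H := by
      have := Subgroup.card_mul_index (Q.subgroupOf H)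
      rwa [Cfsg.Agent.Helper34.BG.card_subgroupOf_of_le hQH] at this
    have h2 : Q.relIndex H = Cfsg.Agent.Helper69.piNat πᶜ (Nat.card H) := by
      have hQ0 : Nat.card Q ≠ 0 := Nat.card_pos.ne'
      have : Nat.card Q * Q.relIndex H = Nat.card Q * Cfsg.Agent.Helper69.piNat πᶜ (Nat.card H) := by
        rw [h1, hQc, hmn]
      exact Nat.eq_of_mul_eq_mul_left (Nat.pos_of_ne_zero hQ0) this
    rw [h2] at hdvd
    exact Cfsg.Agent.Helper69.prime_mem_of_dvd_piNat πᶜ _ p hp hdvd hpπ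

omit [Finite G] in
/-- Elements of a join of two elementwise commuting subgroups are products. -/
theorem mem_sup_of_commute {A B : Subgroup G} (hc : ∀ a ∈ A, ∀ b ∈ B, a * b = b * a) {g : G}
    (hg : g ∈ A ⊔ B) : ∃ a ∈ A, ∃ b ∈ B, g = a * b := by
  rw [Subgroup.sup_eq_closure] at hg
  induction hg using Subgroup.closure_induction with
  | mem x hx =>
    rcases hx with hx | hx
    · exact ⟨x, hx, 1, B.one_mem, by simp⟩
    · exact ⟨1, A.one_mem, x, hx, by simp⟩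
  | one => exact ⟨1, A.one_mem, 1, B.one_mem, by simp⟩
  | mul x y _ _ ihx ihy =>
    obtain ⟨a, ha, b, hb, rfl⟩ := ihx
    obtain ⟨a', ha', b', hb', rfl⟩ := ihy
    refine ⟨a * a', A.mul_mem ha ha', b * b', B.mul_mem hb hb', ?_⟩
    have := hc a' ha' b hb
    calc a * b * (a' * b') = a * (b * a') * b' := by group
      _ = a * (a' * b) * b' := by rw [this]
      _ = a * a' * (b * b') := by group
  | inv x _ ih =>
    obtain ⟨a, ha, b, hb, rfl⟩ := ih
    refine ⟨a⁻¹, A.inv_mem ha, b⁻¹, B.inv_mem hb, ?_⟩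
    rw [mul_inv_rev]
    exact (hc a⁻¹ (A.inv_mem ha) b⁻¹ (B.inv_mem hb)).symm

/-- `K* ≠ 1`. -/
theorem Kstar_ne_bot (h1430 : R1430 G) {M K : Subgroup G} (hM : IsCoatom M)
    (hK : Cfsg.IsPiHallOf (Cfsg.kappa M) K M) (hK1 : K ≠ ⊥) :
    Cfsg.sigmaCore M ⊓ centralizer (K : Set G) ≠ ⊥ := by
  obtain ⟨hprime, -, -⟩ := h1430 M hM K hK hK1
  obtain ⟨u, hu, huK⟩ := exists_prime_dvd_card_of_ne_bot hK1
  have huκ : u ∈ Cfsg.kappa M := hK.2.1 u hu huK
  haveI : Fact u.Prime := ⟨hu⟩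
  obtain ⟨S, hSK⟩ := exists_sylow_le_of_hall hK huκ
  obtain ⟨-, x, hxS, hx1, y, hy, hy1, hxy⟩ := huκ.2.2.2 S
  have hxK : (x : G) ∈ K := hSK ⟨x, hxS, rfl⟩
  have hx1' : (x : G) ≠ 1 := fun h => hx1 (Subtype.ext h)
  have hyC : y ∈ Cfsg.sigmaCore M ⊓ centralizer ({(x : G)} : Set G) := by
    refine ⟨hy, Subgroup.mem_centralizer_iff.mpr ?_⟩
    intro z hz
    rw [Set.mem_singleton_iff] at hz
    subst hz
    exact hxy
  rw [hprime _ hxK hx1'] at hyC
  intro hbot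
  rw [hbot, Subgroup.mem_bot] at hyC
  exact hy1 hyC

/-- `C_G(x') ≤ M` for `1 ≠ x' ∈ K*` (from S1431(1)). -/
theorem centralizer_le_of_mem_Kstar (h1431 : R1431 G) {M K : Subgroup G} (hM : IsCoatom M)
    (hK : Cfsg.IsPiHallOf (Cfsg.kappa M) K M) (hK1 : K ≠ ⊥) {x' : G}
    (hx' : x' ∈ Cfsg.sigmaCore M ⊓ centralizer (K : Set G)) (hx'1 : x' ≠ 1) :
    centralizer ({x'} : Set G) ≤ M := by
  obtain ⟨hTI, -, -, -⟩ := h1431 M hM K hK hK1
  intro g hg
  by_contra hgM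
  have h := hTI g hgM
  have hx'M : x' ∈ M := Cfsg.Agent.Helper55.BGB.sigmaCore_le M hx'.1
  have hcomm : g * x' = x' * g := by
    rw [Subgroup.mem_centralizer_iff] at hg
    exact (hg x' rfl).symm
  have hmem : x' ∈ M.map (MulAut.conj g).toMonoidHom := by
    refine ⟨x', hx'M, ?_⟩
    simp only [MulEquiv.coe_toMonoidHom, MulAut.conj_apply]
    rw [hcomm, mul_inv_cancel_right]
  have : x' ∈ (Cfsg.sigmaCore M ⊓ centralizer (K : Set G)) ⊓ M.map (MulAut.conj g).toMonoidHom :=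
    ⟨hx', hmem⟩
  rw [h, Subgroup.mem_bot] at this
  exact hx'1 this

/-- CASE B1 of S1351. -/
theorem nilpotent_of_partner_not_P1 (hG : Cfsg.IsMinSimpleOddOrder G) (h1378 : R1378 G)
    (h1429 : R1429 G) (h1430 : R1430 G) (h1431 : R1431 G) (h1432 : R1432 G)
    (M : Subgroup G) (hM : IsCoatom M) (K : Subgroup G) (hK : Cfsg.IsPiHallOf (Cfsg.kappa M) K M)
    (hK1 : K ≠ ⊥) (X : Subgroup G) (hXK : X ≤ K) (hXp : (Nat.card X).Prime)
    (H : Subgroup G) (hH : IsCoatom H) (hNH : normalizer (X : Set G) ≤ H)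
    (hHP1 : ¬ (∀ q : ℕ, q.Prime → q ∣ Nat.card H → q ∉ Cfsg.sigma H → q ∈ Cfsg.kappa H)) :
    Group.IsNilpotent K := by
  classical
  obtain ⟨hprime, -, hX3⟩ := h1430 M hM K hK hK1
  obtain ⟨hMN, -, hXσ⟩ := hX3 X hXK hXp
  have hXH : X ≤ Cfsg.sigmaCore H := hXσ H hH hNH
  have hZH : K ⊔ (Cfsg.sigmaCore M ⊓ centralizer (K : Set G)) ≤ H := by
    rw [← hMN]; exact inf_le_right.trans hNH
  have hKH : K ≤ H := le_sup_left.trans hZH
  have hKsH : Cfsg.sigmaCore M ⊓ centralizer (K : Set G) ≤ H := le_sup_right.trans hZH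
  have huκ : Nat.card X ∈ Cfsg.kappa M := hK.2.1 _ hXp (Subgroup.card_dvd_of_le hXK)
  have huσH : Nat.card X ∈ Cfsg.sigma H :=
    Cfsg.Agent.Helper55.BGB.isPi_sigmaCore H _ hXp (Subgroup.card_dvd_of_le hXH)
  have hdisj : ∀ q : ℕ, q ∈ Cfsg.sigma M → q ∈ Cfsg.sigma H → False := by
    intro q hqM hqH
    obtain ⟨g, hg⟩ := h1378 M H hM hH ⟨q, hqM, hqH⟩
    have hσ : Cfsg.sigma H = Cfsg.sigma M := by
      rw [hg]; exact Cfsg.Agent.Helper25.BGNat.sigma_cj g M
    exact Cfsg.Agent.Helper55.BGB.not_mem_sigma_of_mem_kappa huκ (hσ ▸ huσH)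
  have hHM : M ≠ H := by
    intro h
    exact Cfsg.Agent.Helper55.BGB.not_mem_sigma_of_mem_kappa huκ (h ▸ huσH)
  have hKs1 := Kstar_ne_bot h1430 hM hK hK1
  -- a non-identity element of X
  obtain ⟨x₀, hx₀X, hx₀1⟩ : ∃ x₀ ∈ X, x₀ ≠ 1 := by
    have : X ≠ ⊥ := by
      intro h
      rw [h, Subgroup.card_bot] at hXp
      exact Nat.not_prime_one hXp
    exact (Subgroup.ne_bot_iff_exists_ne_one.mp this).elim (fun x hx => ⟨x, x.2, fun h => hx (Subtype.ext h)⟩)
  -- all primes of K* are in kappa H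
  have hKsκ : ∀ t : ℕ, t.Prime → t ∣ Nat.card ↥(Cfsg.sigmaCore M ⊓ centralizer (K : Set G)) →
      t ∈ Cfsg.kappa H := by
    intro t ht htK
    haveI : Fact t.Prime := ⟨ht⟩
    obtain ⟨x', hx'⟩ := exists_prime_orderOf_dvd_card' t htK
    have hx'o : orderOf (x' : G) = t := by rw [Subgroup.orderOf_coe]; exact hx'
    have hx'1 : (x' : G) ≠ 1 := by
      intro h
      rw [h, orderOf_one] at hx'o
      exact ht.one_lt.ne hx'o
    have htσM : t ∈ Cfsg.sigma M := by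
      apply Cfsg.Agent.Helper55.BGB.isPi_sigmaCore M t ht
      exact htK.trans (Subgroup.card_dvd_of_le inf_le_left)
    have hcomm : (x' : G) ∈ H ⊓ centralizer ({x₀} : Set G) := by
      refine ⟨hKsH x'.2, Subgroup.mem_centralizer_iff.mpr ?_⟩
      intro z hz
      rw [Set.mem_singleton_iff] at hz
      subst hz
      exact Subgroup.mem_centralizer_iff.mp x'.2.2 z (hXK hx₀X)
    rcases h1432 H hH x₀ (hXH hx₀X) hx₀1 (x' : G) hcomm hx'1 (by
      intro p hp hpd hpσ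
      rw [hx'o] at hpd
      have : p = t := (Nat.prime_dvd_prime_iff_eq hp ht).mp hpd
      subst this
      exact hdisj p htσM hpσ) with h | h
    · exact h.1 t ht (by rw [hx'o])
    · exfalso
      exact hHM (h.2.2.2 M hM (centralizer_le_of_mem_Kstar h1431 hM hK hK1 x'.2 hx'1))
  obtain ⟨J, hJ, hKsJ⟩ := exists_hall_ge (Cfsg.kappa H)
    (Cfsg.Agent.Helper34.BG.solvable_of_ne_top hG hH.1) hKsH hKsκ
  have hJ1 : J ≠ ⊥ := fun h => hKs1 (le_bot_iff.mp (h ▸ hKsJ))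
  obtain ⟨hJp, hnilH⟩ := card_prime_of_not_P1 hG h1429 h1430 H hH J hJ hJ1 hHP1
  -- J = K*
  have hJeq : Cfsg.sigmaCore M ⊓ centralizer (K : Set G) = J := by
    apply Subgroup.eq_of_le_of_card_ge hKsJ
    have hd := Subgroup.card_dvd_of_le hKsJ
    rcases (Nat.dvd_prime hJp).mp hd with h | h
    · exact absurd (Subgroup.card_eq_one.mp h) hKs1
    · exact h.ge
  obtain ⟨-, -, hJ3⟩ := h1430 H hH J hJ hJ1
  obtain ⟨hHN, -, -⟩ := hJ3 J le_rfl hJp
  -- K ≤ H ⊓ N(J)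
  have hKcJ : ∀ k ∈ K, ∀ a ∈ J, a * k = k * a := by
    intro k hk a ha
    rw [← hJeq] at ha
    exact (Subgroup.mem_centralizer_iff.mp ha.2 k hk).symm
  have hKN : K ≤ normalizer (J : Set G) := by
    intro k hk
    rw [Subgroup.mem_normalizer_iff]
    intro a
    constructor
    · intro ha
      have : k * a * k⁻¹ = a := by rw [← hKcJ k hk a ha, mul_inv_cancel_right]
      rwa [this]
    · intro ha
      have hc := hKcJ k hk _ ha
      have : a = k * a * k⁻¹ := by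
        calc a = k⁻¹ * (k * a * k⁻¹ * k) := by group
          _ = k⁻¹ * (k * (k * a * k⁻¹)) := by rw [hc]
          _ = k * a * k⁻¹ := by group
      rw [this]; exact ha
  have hKle : K ≤ J ⊔ (Cfsg.sigmaCore H ⊓ centralizer (J : Set G)) := by
    rw [← hHN]; exact le_inf hKH hKN
  -- the order of J
  have htκH : Nat.card J ∈ Cfsg.kappa H := hJ.2.1 _ hJp dvd_rfl
  have htσH : Nat.card J ∉ Cfsg.sigma H := Cfsg.Agent.Helper55.BGB.not_mem_sigma_of_mem_kappa htκH
  have htσM : Nat.card J ∈ Cfsg.sigma M := by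
    apply Cfsg.Agent.Helper55.BGB.isPi_sigmaCore M _ hJp
    rw [← hJeq]
    exact Subgroup.card_dvd_of_le inf_le_left
  have hJσ : J ⊓ Cfsg.sigmaCore H = ⊥ := by
    apply disjoint_iff.mp
    apply Subgroup.disjoint_of_coprime_natCard
    apply coprime_of_primes
    intro q hq hqJ hqσ
    have : q = Nat.card J := (Nat.prime_dvd_prime_iff_eq hq hJp).mp hqJ
    subst this
    exact htσH (Cfsg.Agent.Helper55.BGB.isPi_sigmaCore H _ hq hqσ)
  have hcopKJ : (Nat.card K).Coprime (Nat.card J) := by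
    apply coprime_of_primes
    intro q hq hqK hqJ
    have : q = Nat.card J := (Nat.prime_dvd_prime_iff_eq hq hJp).mp hqJ
    subst this
    exact Cfsg.Agent.Helper55.BGB.not_mem_sigma_of_mem_kappa (hK.2.1 _ hq hqK) htσM
  have hKσ : K ≤ Cfsg.sigmaCore H := by
    intro k hk
    obtain ⟨a, ha, b, hb, rfl⟩ := mem_sup_of_commute (A := J)
      (B := Cfsg.sigmaCore H ⊓ centralizer (J : Set G)) (by
        intro a ha b hb
        exact Subgroup.mem_centralizer_iff.mp hb.2 a ha) (hKle hk)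
    have hcomm : Commute a b := Subgroup.mem_centralizer_iff.mp hb.2 a ha
    have hkn : (a * b) ^ Nat.card K = 1 := by
      have := pow_card_eq_one' (G := K) (x := ⟨a * b, hk⟩)
      exact congrArg Subtype.val this
    rw [hcomm.mul_pow] at hkn
    have han : a ^ Nat.card K = (b ^ Nat.card K)⁻¹ := eq_inv_of_mul_eq_one_left hkn
    have han1 : a ^ Nat.card K = 1 := by
      have h1 : a ^ Nat.card K ∈ J ⊓ Cfsg.sigmaCore H :=
        ⟨J.pow_mem ha _, by rw [han]; exact (Cfsg.sigmaCore H).inv_mem ((Cfsg.sigmaCore H).pow_mem hb.1 _)⟩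
      rw [hJσ, Subgroup.mem_bot] at h1
      exact h1
    have hat : a ^ Nat.card J = 1 := by
      have := pow_card_eq_one' (G := J) (x := ⟨a, ha⟩)
      exact congrArg Subtype.val this
    have ha1 : a = 1 := by
      have h1 := orderOf_dvd_of_pow_eq_one han1
      have h2 := orderOf_dvd_of_pow_eq_one hat
      have := Nat.dvd_gcd h1 h2
      rw [Nat.Coprime.gcd_eq_one hcopKJ, Nat.dvd_one, orderOf_eq_one_iff] at this
      exact this
    rw [ha1, one_mul]
    exact hb.1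
  haveI : Group.IsNilpotent ↥(Cfsg.sigmaCore H) := hnilH
  have : Group.IsNilpotent ↥(K.subgroupOf (Cfsg.sigmaCore H)) := inferInstance
  exact (Group.isNilpotent_congr (Subgroup.subgroupOfEquivOfLe hKσ)).mp this

end Cfsg.Agent.Helper95.BG14
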