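import Mathlib
import Cfsg.Agent.Lib.Helper95.BG14.CaseB1
import Cfsg.Agent.Lib.Helper9.BG147g

/-!
# S1351: Hall `κ(M)`-subgroups exist and are cyclic (hypothesis-parametrised form)

* CASE A (`M` not of type `P₁`): `#K` is prime (`CaseA.lean`).
* CASE B1 (some `H ∈ 𝓜(N_G(X))`, `X ≤ K` of prime order, is not of type `P₁`): `K` is nilpotent
  (`CaseB1.lean`).
* CASE B2 (`M` and all those `H` are of type `P₁`): they form a clique, excluded by helper9's
  `no_clique` (`clique_false` below).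

A nilpotent Hall `κ(M)`-subgroup is cyclic since its Sylow subgroups are cyclic.
-/

set_option autoImplicit false

namespace Cfsg.Agent.Helper95.BG14

open Subgroup
open scoped Pointwise
open Cfsg.Agent.Helper9.BG147 (PPair Ks Rows partner_basic partner_main no_clique exists_prime_card_le)
open Cfsg.Agent.Helper79.BG10 (cj)

variable {G : Type*} [Group G] [Finite G]

/-- Type `P₁`: every prime divisor of `#L` outside `σ(L)` lies in `κ(L)`. -/
abbrev IsP1 (L : Subgroup G) : Prop :=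
  ∀ q : ℕ, q.Prime → q ∣ Nat.card L → q ∉ Cfsg.sigma L → q ∈ Cfsg.kappa L

omit [Finite G] in
/-- `p`-subgroups of `M` are cyclic for `p ∈ κ(M)`. -/
theorem isCyclic_of_kappa {M A : Subgroup G} {p : ℕ} (hp : p ∈ Cfsg.kappa M) (hA : A ≤ M)
    (hAp : IsPGroup p A) : IsCyclic A := by
  haveI : Fact p.Prime := ⟨hp.1⟩
  have hA' : IsPGroup p (A.subgroupOf M) := hAp.comap_subtype
  obtain ⟨S, hS⟩ := hA'.exists_le_sylow
  have hcyc : IsCyclic (S : Subgroup M) := (hp.2.2.2 S).1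
  have h1 : IsCyclic ↥(A.subgroupOf M) := by
    have h4 : IsCyclic ↥((A.subgroupOf M).subgroupOf (S : Subgroup M)) := inferInstance
    exact (Subgroup.subgroupOfEquivOfLe hS).isCyclic.mp h4
  exact (Subgroup.subgroupOfEquivOfLe hA).isCyclic.mp h1

/-- A Hall `κ(M)`-subgroup is a `Z`-group. -/
theorem isZGroup_of_hall {M K : Subgroup G} (hK : Cfsg.IsPiHallOf (Cfsg.kappa M) K M) :
    IsZGroup K := by
  refine ⟨fun p hp P => ?_⟩
  haveI : Fact p.Prime := ⟨hp⟩
  by_cases hpK : p ∣ Nat.card K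
  · have hpκ : p ∈ Cfsg.kappa M := hK.2.1 p hp hpK
    have hA : IsCyclic ↥((P : Subgroup K).map K.subtype) :=
      isCyclic_of_kappa hpκ ((Subgroup.map_subtype_le _).trans hK.1) (P.isPGroup'.map _)
    exact ((P : Subgroup K).equivMapOfInjective K.subtype K.subtype_injective).isCyclic.mpr hA
  · have h1 : Nat.card (P : Subgroup K) = 1 := by
      rcases P.isPGroup'.card_eq_or_dvd with h | h
      · exact h
      · exact absurd (h.trans (Subgroup.card_subgroup_dvd_card _)) hpK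
    haveI : Subsingleton ↥(P : Subgroup K) := (Nat.card_eq_one_iff_unique.mp h1).1
    exact isCyclic_of_subsingleton

omit [Finite G] in
theorem smul_eq_cj (g : G) (H : Subgroup G) :
    MulAut.conj g • H = H.map (MulAut.conj g).toMonoidHom := rfl

/-- CASE B2: no clique of maximal subgroups of type `P₁`. -/
theorem clique_false (hG : Cfsg.IsMinSimpleOddOrder G) (rows : Rows G)
    (h1377 : ∀ L : Subgroup G, IsCoatom L →
      Set.ncard (Cfsg.tildeOf L ((Cfsg.sigmaCore L : Set G) \ {1}))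
        = (Nat.card ↥(Cfsg.sigmaCore L) - 1) * L.index)
    (hdisj : ∀ M N : Subgroup G, IsCoatom M → IsCoatom N →
      (∀ g : G, N ≠ M.map (MulAut.conj g).toMonoidHom) →
      Cfsg.tildeOf M ((Cfsg.sigmaCore M : Set G) \ {1}) ∩
        Cfsg.tildeOf N ((Cfsg.sigmaCore N : Set G) \ {1}) = ∅)
    (hT : ∀ (M K : Subgroup G), IsCoatom M → Cfsg.IsPiHallOf (Cfsg.kappa M) K M → K ≠ ⊥ →
      ∀ (k y : G), k ∈ K → k ≠ 1 → y ∈ Cfsg.sigmaCore M ⊓ centralizer (K : Set G) → y ≠ 1 →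
      ∀ (N : Subgroup G), IsCoatom N → ∀ g : G,
        g * (k * y) * g⁻¹ ∉ Cfsg.tildeOf N ((Cfsg.sigmaCore N : Set G) \ {1}))
    {M K : Subgroup G} (pp : PPair M K) (hMP1 : IsP1 M)
    (hall : ∀ X : Subgroup G, X ≤ K → (Nat.card X).Prime → ∀ H : Subgroup G, IsCoatom H →
      normalizer (X : Set G) ≤ H → IsP1 H) : False := by
  classical
  have hM : IsCoatom M := pp.coatom
  -- subgroups of `H`-type
  let HT : Subgroup G → Prop := fun L =>
    ∃ X : Subgroup G, X ≤ K ∧ (Nat.card X).Prime ∧ IsCoatom L ∧ normalizer (X : Set G) ≤ L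
  have hX1 : ∀ X : Subgroup G, (Nat.card X).Prime → X ≠ ⊥ := by
    intro X hXp h
    rw [h, Subgroup.card_bot] at hXp
    exact Nat.not_prime_one hXp
  have hHT_ne : ∀ L, HT L → L ≠ M := by
    rintro L ⟨X, hXK, hXp, hL, hNX⟩ h
    obtain ⟨-, -, hnc, -⟩ := partner_basic rows pp hXK hXp hL hNX
    apply hnc 1
    rw [smul_eq_cj]
    exact (Cfsg.Agent.Helper79.BG10.cj_one L).trans h
  have hHT_ex : ∀ L, HT L → ∃ J, Cfsg.IsPiHallOf (Cfsg.kappa L) J L ∧ Ks M K ≤ J := by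
    rintro L ⟨X, hXK, hXp, hL, hNX⟩
    obtain ⟨-, hZL, -, hκ⟩ := partner_basic rows pp hXK hXp hL hNX
    exact Cfsg.Agent.Helper9.BG147.exists_hall_ge
      (Cfsg.Agent.Helper34.BG.solvable_of_ne_top hG hL.1) (le_sup_right.trans hZL) hκ
  -- the choice of the Hall subgroups
  let Jf : Subgroup G → Subgroup G := fun L =>
    if L = M then K else
      if h : ∃ J, Cfsg.IsPiHallOf (Cfsg.kappa L) J L ∧ Ks M K ≤ J then h.choose else ⊥
  have hJM : Jf M = K := if_pos rfl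
  have hJH : ∀ L, HT L → Cfsg.IsPiHallOf (Cfsg.kappa L) (Jf L) L ∧ Ks M K ≤ Jf L := by
    intro L hL
    have h := hHT_ex L hL
    have : Jf L = h.choose := by
      show (if L = M then K else
        if h : ∃ J, Cfsg.IsPiHallOf (Cfsg.kappa L) J L ∧ Ks M K ≤ J then h.choose else ⊥) = _
      rw [if_neg (hHT_ne L hL), dif_pos h]
    rw [this]
    exact h.choose_spec
  have hmain : ∀ L X : Subgroup G, X ≤ K → (Nat.card X).Prime → IsCoatom L →
      normalizer (X : Set G) ≤ L →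
      PPair L (Jf L) ∧ X ≤ Ks L (Jf L) ∧ Jf L ⊔ Ks L (Jf L) = K ⊔ Ks M K := by
    intro L X hXK hXp hL hNX
    obtain ⟨hJ, hKsJ⟩ := hJH L ⟨X, hXK, hXp, hL, hNX⟩
    obtain ⟨ppL, hXKs, -, -, hZeq⟩ := partner_main rows hG pp hXK hXp hL hNX hJ hKsJ
    exact ⟨ppL, hXKs, hZeq⟩
  -- a maximal subgroup over `N_G(X)`
  have hexH : ∀ X : Subgroup G, X ≤ K → (Nat.card X).Prime →
      ∃ H : Subgroup G, IsCoatom H ∧ normalizer (X : Set G) ≤ H := by
    intro X hXK hXp
    have hXtop : X ≠ ⊤ := by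
      intro h
      apply hM.1
      rw [eq_top_iff, ← h]
      exact hXK.trans pp.K_le
    exact Cfsg.Agent.Helper34.BG.exists_coatom_ge
      (Cfsg.Agent.Helper34.BG.normalizer_ne_top hG (hX1 X hXp) hXtop)
  -- the index type
  let ι := {L : Subgroup G // L = M ∨ HT L}
  haveI : Fintype ι := Fintype.ofFinite ι
  have hppι : ∀ i : ι, PPair i.1 (Jf i.1) := by
    rintro ⟨L, hL | ⟨X, hXK, hXp, hLc, hNX⟩⟩
    · show PPair L (Jf L)
      rw [hL, hJM]
      exact pp
    · exact (hmain L X hXK hXp hLc hNX).1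
  have hZι : ∀ i : ι, Jf i.1 ⊔ Ks i.1 (Jf i.1) = K ⊔ Ks M K := by
    rintro ⟨L, hL | ⟨X, hXK, hXp, hLc, hNX⟩⟩
    · show Jf L ⊔ Ks L (Jf L) = K ⊔ Ks M K
      rw [hL, hJM]
    · exact (hmain L X hXK hXp hLc hNX).2.2
  have hP1ι : ∀ i : ι, IsP1 i.1 := by
    rintro ⟨L, hL | ⟨X, hXK, hXp, hLc, hNX⟩⟩
    · show IsP1 L
      rw [hL]
      exact hMP1
    · exact hall X hXK hXp L hLc hNX
  have hι : 2 ≤ Fintype.card ι := by
    obtain ⟨X, hXK, hXp⟩ := exists_prime_card_le pp.ne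
    obtain ⟨H, hH, hNH⟩ := hexH X hXK hXp
    have hHT : HT H := ⟨X, hXK, hXp, hH, hNH⟩
    have hne : (⟨M, Or.inl rfl⟩ : ι) ≠ ⟨H, Or.inr hHT⟩ := by
      intro h
      exact hHT_ne H hHT (congrArg Subtype.val h).symm
    exact Nat.succ_le_of_lt (Fintype.one_lt_card_iff.mpr ⟨_, _, hne⟩)
  refine no_clique hG hι (fun i : ι => i.1) (fun i : ι => Jf i.1) (K ⊔ Ks M K) hppι hZι ?_ ?_ ?_
    (fun i => h1377 i.1 (hppι i).coatom) hdisj ?_
  · -- `⋂ J i = 1`
    intro z _ hzall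
    by_contra hz1
    have hzK : z ∈ K := by
      have : z ∈ Jf M := hzall ⟨M, Or.inl rfl⟩
      rwa [hJM] at this
    have hzp : zpowers z ≠ ⊥ := by rwa [Ne, zpowers_eq_bot]
    obtain ⟨X, hXz, hXp⟩ := exists_prime_card_le hzp
    have hXK : X ≤ K := hXz.trans ((zpowers_le).mpr hzK)
    obtain ⟨H, hH, hNH⟩ := hexH X hXK hXp
    obtain ⟨ppH, hXKs, -⟩ := hmain H X hXK hXp hH hNH
    have hzJ : z ∈ Jf H := hzall ⟨H, Or.inr ⟨X, hXK, hXp, hH, hNH⟩⟩
    have hXJ : X ≤ Jf H := hXz.trans ((zpowers_le).mpr hzJ)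
    have hle : X ≤ Jf H ⊓ Cfsg.sigmaCore H := le_inf hXJ (hXKs.trans inf_le_left)
    rw [ppH.K_inf_sigmaCore] at hle
    exact hX1 X hXp (le_bot_iff.mp hle)
  · -- orders
    intro i
    exact (hppι i).card_of_P1 (hP1ι i)
  · -- pairwise non-conjugate
    rintro ⟨L, hL⟩ ⟨L', hL'⟩ hij g heq
    have heq' : L' = cj g L := heq
    have hne : L ≠ L' := fun h => hij (Subtype.ext h)
    rcases hL with hL | ⟨X, hXK, hXp, hLc, hNX⟩
    · rcases hL' with hL' | ⟨X', hX'K, hX'p, hL'c, hNX'⟩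
      · exact hne (hL.trans hL'.symm)
      · obtain ⟨-, -, hnc, -⟩ := partner_basic rows pp hX'K hX'p hL'c hNX'
        apply hnc g⁻¹
        rw [smul_eq_cj, heq', hL]
        exact Cfsg.Agent.Helper79.BG10.cj_inv_cj g M
    · rcases hL' with hL' | ⟨X', hX'K, hX'p, hL'c, hNX'⟩
      · obtain ⟨-, -, hnc, -⟩ := partner_basic rows pp hXK hXp hLc hNX
        apply hnc g
        rw [smul_eq_cj]
        exact heq'.symm.trans hL'
      · obtain ⟨ppL, hXKs, -⟩ := hmain L X hXK hXp hLc hNX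
        obtain ⟨-, hZL', -, -⟩ := partner_basic rows pp hX'K hX'p hL'c hNX'
        have hXL' : X ≤ L' := hXK.trans (le_sup_left.trans hZL')
        have hg : g ∈ L := by
          by_contra hg
          have hti := ppL.ti g hg
          have hle : X ≤ Ks L (Jf L) ⊓ L.map (MulAut.conj g).toMonoidHom :=
            le_inf hXKs (heq ▸ hXL')
          rw [hti] at hle
          exact hX1 X hXp (le_bot_iff.mp hle)
        apply hne
        rw [heq']
        exact (Cfsg.Agent.Helper79.BG10.cj_eq_self_of_mem hg).symm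
  · -- LEMMA T
    intro i k hk hk1 y hy hy1 j g
    exact hT i.1 (Jf i.1) (hppι i).coatom (hppι i).hall (hppι i).ne k y hk hk1 hy hy1 j.1
      (hppι j).coatom g

/-- **S1351**, hypothesis-parametrised. -/
theorem kappa_hall_cyclic (hG : Cfsg.IsMinSimpleOddOrder G) (rows : Rows G)
    (h1378 : R1378 G) (h1429 : R1429 G) (h1430 : R1430 G) (h1431 : R1431 G) (h1432 : R1432 G)
    (h1377 : ∀ L : Subgroup G, IsCoatom L →
      Set.ncard (Cfsg.tildeOf L ((Cfsg.sigmaCore L : Set G) \ {1}))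
        = (Nat.card ↥(Cfsg.sigmaCore L) - 1) * L.index)
    (hdisj : ∀ M N : Subgroup G, IsCoatom M → IsCoatom N →
      (∀ g : G, N ≠ M.map (MulAut.conj g).toMonoidHom) →
      Cfsg.tildeOf M ((Cfsg.sigmaCore M : Set G) \ {1}) ∩
        Cfsg.tildeOf N ((Cfsg.sigmaCore N : Set G) \ {1}) = ∅)
    (hT : ∀ (M K : Subgroup G), IsCoatom M → Cfsg.IsPiHallOf (Cfsg.kappa M) K M → K ≠ ⊥ →
      ∀ (k y : G), k ∈ K → k ≠ 1 → y ∈ Cfsg.sigmaCore M ⊓ centralizer (K : Set G) → y ≠ 1 →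
      ∀ (N : Subgroup G), IsCoatom N → ∀ g : G,
        g * (k * y) * g⁻¹ ∉ Cfsg.tildeOf N ((Cfsg.sigmaCore N : Set G) \ {1}))
    (M : Subgroup G) (hM : IsCoatom M) :
    (∃ K : Subgroup G, Cfsg.IsPiHallOf (Cfsg.kappa M) K M) ∧
      ∀ K : Subgroup G, Cfsg.IsPiHallOf (Cfsg.kappa M) K M → IsCyclic K := by
  classical
  constructor
  · obtain ⟨J, hJ, -⟩ := Cfsg.Agent.Helper9.BG147.exists_hall_ge (π := Cfsg.kappa M)
      (Cfsg.Agent.Helper34.BG.solvable_of_ne_top hG hM.1) (bot_le : (⊥ : Subgroup G) ≤ M)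
      (fun p hp h => by
        rw [Subgroup.card_bot, Nat.dvd_one] at h
        exact absurd h hp.ne_one)
    exact ⟨J, hJ⟩
  · intro K hK
    by_cases hK1 : K = ⊥
    · subst hK1
      exact isCyclic_of_subsingleton
    by_cases hMP1 : IsP1 M
    · -- `K` is nilpotent
      have hnil : Group.IsNilpotent K := by
        by_cases hB1 : ∃ X : Subgroup G, X ≤ K ∧ (Nat.card X).Prime ∧ ∃ H : Subgroup G,
            IsCoatom H ∧ normalizer (X : Set G) ≤ H ∧ ¬ IsP1 H
        · obtain ⟨X, hXK, hXp, H, hH, hNH, hHP1⟩ := hB1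
          exact nilpotent_of_partner_not_P1 hG h1378 h1429 h1430 h1431 h1432 M hM K hK hK1 X hXK
            hXp H hH hNH hHP1
        · exfalso
          refine clique_false hG rows h1377 hdisj hT (rows.pp M K hM hK hK1) hMP1 ?_
          intro X hXK hXp H hH hNH
          by_contra hHP1
          exact hB1 ⟨X, hXK, hXp, H, hH, hNH, hHP1⟩
      haveI := hnil
      haveI : IsZGroup K := isZGroup_of_hall hK
      exact inferInstance
    · have hp := (card_prime_of_not_P1 hG h1429 h1430 M hM K hK hK1 hMP1).1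
      haveI : Fact (Nat.card K).Prime := ⟨hp⟩
      exact isCyclic_of_prime_card rfl

end Cfsg.Agent.Helper95.BG14
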